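import Cfsg.Agent.Lib.SteinbergValue.Perms

/-!
Fixed cosets of a standard parabolic subgroup and invariant flags.
-/

set_option autoImplicit false
set_option linter.unusedSectionVars false

namespace Cfsg.Agent.Lib.SteinbergValue

open Module Cfsg
open scoped MatrixGroups

variable {F : Type*} [Field F] {n : ℕ}

/-- The span of the first `d` coordinate vectors. -/
def std (n : ℕ) (F : Type*) [Field F] (d : ℕ) : Submodule F (Fin n → F) where
  carrier := {v | ∀ i : Fin n, d ≤ i.val → v i = 0}
  add_mem' := fun ha hb i hi => by simp [ha i hi, hb i hi]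
  zero_mem' := fun i _ => rfl
  smul_mem' := fun c v hv i hi => by simp [hv i hi]

theorem finrank_std {d : ℕ} (hd : d ≤ n) : finrank F (std n F d) = d := by
  let e : std n F d ≃ₗ[F] (Fin d → F) :=
    { toFun := fun v j => v.1 (Fin.castLE hd j)
      map_add' := fun v w => rfl
      map_smul' := fun c v => rfl
      invFun := fun w => ⟨fun i => if h : i.val < d then w ⟨i.val, h⟩ else 0, fun i hi => dif_neg (by omega)⟩
      left_inv := fun v => Subtype.ext (funext fun i => by
        show (if h : i.val < d then v.1 (Fin.castLE hd ⟨i.val, h⟩) else 0) = v.1 i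
        split_ifs with h
        · rfl
        · exact (v.2 i (by omega)).symm)
      right_inv := fun w => funext fun j => by simp }
  rw [e.finrank_eq, finrank_pi, Fintype.card_fin]

/-- The linear map of an element. -/
def act (g : GL (Fin n) F) : (Fin n → F) →ₗ[F] (Fin n → F) := (g : Matrix (Fin n) (Fin n) F).mulVecLin

theorem act_mul (g h : GL (Fin n) F) : act (g * h) = act g ∘ₗ act h := by
  simp [act, Matrix.mulVecLin_mul]

theorem act_one : act (1 : GL (Fin n) F) = LinearMap.id := by simp [act]

theorem act_injective (g : GL (Fin n) F) : Function.Injective (act g) := by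
  intro v w h
  have h' := congrArg (act g⁻¹) h
  simp only [← LinearMap.comp_apply, ← act_mul, inv_mul_cancel, act_one, LinearMap.id_apply] at h'
  exact h'

theorem finrank_map_act (g : GL (Fin n) F) (W : Submodule F (Fin n → F)) : finrank F (W.map (act g)) = finrank F W :=
  (Submodule.equivMapOfInjective _ (act_injective g) W).finrank_eq.symm

theorem map_act_mul (g h : GL (Fin n) F) (W : Submodule F (Fin n → F)) : W.map (act (g * h)) = (W.map (act h)).map (act g) := by
  rw [act_mul, Submodule.map_comp]

theorem mem_parabolic_iff {T : Finset ℕ} (hT : T ⊆ Finset.range (n - 1)) (g : GL (Fin n) F) :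
    g ∈ parabolicGL n F (parts n T) ↔ ∀ d ∈ cuts n T, (std n F d).map (act g) = std n F d := by
  change (g : Matrix (Fin n) (Fin n) F).BlockTriangular (compLabel (parts n T)) ↔ _
  constructor
  · intro h d hd
    have hdn : d ≤ n := by
      simp only [cuts, Finset.mem_filter, Finset.mem_Ico] at hd
      omega
    refine Submodule.eq_of_le_of_finrank_eq ?_ (finrank_map_act g _)
    rintro _ ⟨v, hv, rfl⟩ i hi
    show ∑ j : Fin n, (g : Matrix (Fin n) (Fin n) F) i j * v j = 0
    refine Finset.sum_eq_zero fun j _ => ?_
    by_cases hj : j.val < d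
    · show (g : Matrix (Fin n) (Fin n) F) i j * v j = 0
      rw [h ((compLabel_lt_iff hT i j).2 ⟨d, hd, hj, hi⟩), zero_mul]
    · show (g : Matrix (Fin n) (Fin n) F) i j * v j = 0
      rw [hv j (by omega), mul_zero]
  · intro h i j hij
    obtain ⟨d, hd, hjd, hdi⟩ := (compLabel_lt_iff hT i j).1 hij
    have hmem : act g (Pi.single j 1) ∈ std n F d := by
      rw [← h d hd]
      refine Submodule.mem_map_of_mem (fun k hk => ?_)
      rw [Pi.single_eq_of_ne (fun e => by subst e; omega)]
    simpa [act] using hmem i hdi

/-- A basis adapted to a chain of subspaces. -/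
theorem exists_adapted (C : Finset (Submodule F (Fin n → F))) (hC : IsChain (· ≤ ·) (C : Set (Submodule F (Fin n → F)))) :
    ∃ g : GL (Fin n) F, ∀ W ∈ C, (std n F (finrank F W)).map (act g) = W := by
  classical
  have key : ∀ k, k ≤ n → ∃ v : Fin k → (Fin n → F), LinearIndependent F v ∧
      ∀ i : Fin k, ∀ W ∈ C, i.val < finrank F W → v i ∈ W := by
    intro k
    induction k with
    | zero => exact fun _ => ⟨fun i => i.elim0, linearIndependent_empty_type, fun i => i.elim0⟩
    | succ k ih =>
      intro hk
      obtain ⟨v, hv, hvC⟩ := ih (by omega)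
      set C' := C.filter fun W : Submodule F (Fin n → F) => k < finrank F W
      have hspan : finrank F (Submodule.span F (Set.range v)) = k := by rw [finrank_span_eq_card hv, Fintype.card_fin]
      obtain ⟨W₀, hW₀, hmin⟩ : ∃ W₀ : Submodule F (Fin n → F), k < finrank F W₀ ∧ ∀ W ∈ C, k < finrank F W → W₀ ≤ W := by
        rcases C'.eq_empty_or_nonempty with h | h
        · refine ⟨⊤, by rw [finrank_top, finrank_pi, Fintype.card_fin]; omega, fun W hW hlt => absurd ?_ (Finset.eq_empty_iff_forall_notMem.1 h W)⟩
          simp [C', hW, hlt]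
        · obtain ⟨W₀, hW₀, hm⟩ := C'.exists_minimal h
          rw [Finset.mem_filter] at hW₀
          refine ⟨W₀, hW₀.2, fun W hW hlt => ?_⟩
          rcases hC.total hW₀.1 hW with h' | h'
          · exact h'
          · exact hm (Finset.mem_filter.2 ⟨hW, hlt⟩) h'
      obtain ⟨w, hw, hw'⟩ := Set.not_subset.1 fun hsub : (W₀ : Set (Fin n → F)) ⊆ Submodule.span F (Set.range v) => by
        have := Submodule.finrank_mono (show W₀ ≤ Submodule.span F (Set.range v) from hsub)
        omega
      refine ⟨Fin.snoc v w, linearIndependent_finSnoc.2 ⟨hv, hw'⟩, fun i => ?_⟩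
      refine Fin.lastCases ?_ (fun j => ?_) i
      · intro W hW hlt
        rw [Fin.snoc_last]
        exact hmin W hW (by simpa using hlt) hw
      · intro W hW hlt
        rw [Fin.snoc_castSucc]
        exact hvC j W hW (by simpa using hlt)
  obtain ⟨v, hv, hvC⟩ := key n le_rfl
  let M : Matrix (Fin n) (Fin n) F := (Matrix.of v).transpose
  have hM : IsUnit M := Matrix.linearIndependent_cols_iff_isUnit.1 hv
  refine ⟨hM.unit, fun W hW => Submodule.eq_of_le_of_finrank_eq ?_ ?_⟩
  · rintro _ ⟨x, hx, rfl⟩
    rw [show act hM.unit x = ∑ j, x j • v j by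
      funext i
      show M.mulVec x i = _
      simp [Matrix.mulVec, dotProduct, M, mul_comm]]
    refine Submodule.sum_mem _ fun j _ => ?_
    by_cases hj : j.val < finrank F W
    · exact Submodule.smul_mem _ _ (hvC j W hW hj)
    · rw [hx j (by omega), zero_smul]; exact W.zero_mem
  · rw [finrank_map_act, finrank_std]
    have := Submodule.finrank_le W
    rwa [finrank_pi, Fintype.card_fin] at this

open Classical in
/-- The invariant flags of a given type. -/
noncomputable def flags [Fintype F] (x : GL (Fin n) F) (D : Finset ℕ) : Finset (Finset (Submodule F (Fin n → F))) :=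
  have : Fintype (Submodule F (Fin n → F)) := Fintype.ofFinite _
  Finset.univ.filter fun C => IsChain (· ≤ ·) (C : Set (Submodule F (Fin n → F))) ∧
    (∀ W ∈ C, W.map (act x) = W) ∧ C.image (fun W : Submodule F (Fin n → F) => finrank F W) = D

open Classical in
/-- Fixed cosets correspond to invariant flags. -/
theorem fixedPointCharacter_parts [Fintype F] {T : Finset ℕ} (hT : T ⊆ Finset.range (n - 1)) (x : GL (Fin n) F) :
    fixedPointCharacter (parabolicGL n F (parts n T)) x = ((flags x (cuts n T)).card : ℂ) := by
  set P := parabolicGL n F (parts n T)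
  have hD : ∀ d ∈ cuts n T, d ≤ n := fun d hd => by simp only [cuts, Finset.mem_filter, Finset.mem_Ico] at hd; omega
  let flag : GL (Fin n) F → Finset (Submodule F (Fin n → F)) := fun g => (cuts n T).image fun d => (std n F d).map (act g)
  have hdim : ∀ g d, d ∈ cuts n T → finrank F ((std n F d).map (act g)) = d := fun g d hd => by
    rw [finrank_map_act, finrank_std (hD d hd)]
  have hflag : ∀ g h : GL (Fin n) F, g⁻¹ * h ∈ P → flag g = flag h := by
    intro g h hp
    refine Finset.image_congr fun d hd => ?_
    conv_rhs => rw [show h = g * (g⁻¹ * h) by group, map_act_mul, (mem_parabolic_iff hT (g⁻¹ * h)).1 hp d hd]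
  have hflag' : ∀ g h : GL (Fin n) F, flag g = flag h → ∀ d ∈ cuts n T, (std n F d).map (act g) = (std n F d).map (act h) := by
    intro g h he d hd
    have hm : (std n F d).map (act g) ∈ flag h := he ▸ Finset.mem_image_of_mem _ hd
    obtain ⟨d', hd', he'⟩ := Finset.mem_image.1 hm
    have := congrArg (fun W : Submodule F (Fin n → F) => finrank F W) he'
    simp only [hdim h d' hd', hdim g d hd] at this
    rw [← he', this]
  let Φ : (GL (Fin n) F) ⧸ P → Finset (Submodule F (Fin n → F)) :=
    Quotient.lift flag fun g h hgh => hflag g h (QuotientGroup.leftRel_apply.1 hgh)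
  have hfix : ∀ g : GL (Fin n) F, (QuotientGroup.mk g : (GL (Fin n) F) ⧸ P) ∈ MulAction.fixedBy _ x ↔
      ∀ d ∈ cuts n T, ((std n F d).map (act g)).map (act x) = (std n F d).map (act g) := by
    intro g
    rw [MulAction.mem_fixedBy, MulAction.Quotient.smul_mk, smul_eq_mul, QuotientGroup.eq, mem_parabolic_iff hT]
    refine forall₂_congr fun d _ => ?_
    rw [_root_.mul_inv_rev, map_act_mul, map_act_mul]
    constructor
    · intro h
      conv_lhs => rw [← h]
      simp only [← map_act_mul]
      congr 2
      group
    · intro h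
      conv_lhs => rw [← h]
      rw [← map_act_mul, ← map_act_mul, ← map_act_mul, show g⁻¹ * x⁻¹ * x * g = 1 by group, act_one, Submodule.map_id]
  simp only [fixedPointCharacter, Nat.cast_inj]
  rw [← Nat.card_eq_finsetCard]
  refine Nat.card_congr (Equiv.ofBijective (fun c => ⟨Φ c.1, ?_⟩) ⟨?_, ?_⟩)
  · obtain ⟨c, hc⟩ := c
    induction c using QuotientGroup.induction_on with
    | H g =>
      simp only [flags, Finset.mem_filter, Finset.mem_univ, true_and]
      show IsChain (· ≤ ·) (flag g : Set (Submodule F (Fin n → F))) ∧ _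
      refine ⟨fun W hW W' hW' _ => ?_, fun W hW => ?_, ?_⟩
      · obtain ⟨d, -, rfl⟩ := Finset.mem_image.1 (Finset.mem_coe.1 hW)
        obtain ⟨d', -, rfl⟩ := Finset.mem_image.1 (Finset.mem_coe.1 hW')
        rcases le_total d d' with h | h
        · exact Or.inl (Submodule.map_mono fun v hv i hi => hv i (h.trans hi))
        · exact Or.inr (Submodule.map_mono fun v hv i hi => hv i (h.trans hi))
      · obtain ⟨d, hd, rfl⟩ := Finset.mem_image.1 hW
        exact (hfix g).1 hc d hd
      · show (flag g).image _ = _
        rw [Finset.image_image]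
        conv_rhs => rw [← Finset.image_id (s := cuts n T)]
        exact Finset.image_congr fun d hd => hdim g d hd
  · rintro ⟨c, hc⟩ ⟨c', hc'⟩ h
    induction c using QuotientGroup.induction_on with
    | H g =>
      induction c' using QuotientGroup.induction_on with
      | H g' =>
        refine Subtype.ext (QuotientGroup.eq.2 ((mem_parabolic_iff hT _).2 fun d hd => ?_))
        rw [map_act_mul, ← hflag' g g' (congrArg Subtype.val h) d hd, ← map_act_mul, inv_mul_cancel, act_one, Submodule.map_id]
  · rintro ⟨C, hC⟩
    simp only [flags, Finset.mem_filter, Finset.mem_univ, true_and] at hC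
    obtain ⟨hch, hinv, him⟩ := hC
    obtain ⟨g, hg⟩ := exists_adapted C hch
    have hgC : flag g = C := by
      refine Finset.ext fun W => ⟨fun hW => ?_, fun hW => ?_⟩
      · obtain ⟨d, hd, rfl⟩ := Finset.mem_image.1 hW
        rw [← him] at hd
        obtain ⟨W, hW', rfl⟩ := Finset.mem_image.1 hd
        rwa [hg W hW']
      · exact Finset.mem_image.2 ⟨_, him ▸ Finset.mem_image_of_mem _ hW, hg W hW⟩
    refine ⟨⟨QuotientGroup.mk g, (hfix g).2 fun d hd => ?_⟩, Subtype.ext hgC⟩
    exact hinv _ (hgC ▸ Finset.mem_image_of_mem (fun d => (std n F d).map (act g)) hd)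

end Cfsg.Agent.Lib.SteinbergValue
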