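import Cfsg.Agent.Lib.GLCuspidal.Weights
import Cfsg.Agent.Lib.GLCuspidal.Modules
import Cfsg.Agent.Lib.GLCuspidal.IntegralRegular

/-!
The alternating count of chains of invariant subspaces of a semisimple endomorphism.
-/

set_option autoImplicit false
set_option linter.unusedSectionVars false

namespace Cfsg.Agent.Lib.SteinbergValue

open Module Polynomial
open Cfsg.Agent.Lib.GLCuspidal (mu rootModule isScalarTower_root invariantOrderIso finrank_root natCard_root finite_root sum_le_mu_and_wt aeval_restrict)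

variable {F : Type*} [Field F] [Fintype F] {V : Type*} [AddCommGroup V] [Module F V] [Module.Finite F V]
  [Fintype (Submodule F V)]

open Classical in
/-- The invariant subspaces below `U`. -/
noncomputable def invBelow (f : Module.End F V) (U : Submodule F V) : Finset (Submodule F V) :=
  Finset.univ.filter fun W => W ≤ U ∧ ∀ v ∈ W, f v ∈ W

/-- The kernel of a polynomial. -/
noncomputable def kerP (f : Module.End F V) (π : F[X]) : Submodule F V := LinearMap.ker (aeval f π)

/-- The weight of a subspace. -/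
noncomputable def weight (f : Module.End F V) (S : Finset F[X]) (W : Submodule F V) : ℤ :=
  ∏ π ∈ S, mu (Fintype.card F ^ π.natDegree) (finrank F ↥(W ⊓ kerP f π) / π.natDegree)

theorem mem_invBelow {f : Module.End F V} {U W : Submodule F V} :
    W ∈ invBelow f U ↔ W ≤ U ∧ ∀ v ∈ W, f v ∈ W := by simp [invBelow]

theorem aeval_mem {f : Module.End F V} {W : Submodule F V} (hW : ∀ v ∈ W, f v ∈ W) (P : F[X]) {v : V} (hv : v ∈ W) :
    aeval f P v ∈ W := by
  rw [← aeval_restrict hW P ⟨v, hv⟩]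
  exact Submodule.coe_mem _

theorem invariant_kerP (f : Module.End F V) (π : F[X]) {v : V} (hv : v ∈ kerP f π) : f v ∈ kerP f π := by
  rw [kerP, LinearMap.mem_ker] at hv ⊢
  rw [← Module.End.mul_apply, (GLCuspidal.commute_aeval_self f π).eq, Module.End.mul_apply, hv, map_zero]

theorem invariant_inf {f : Module.End F V} {W : Submodule F V} (hW : ∀ v ∈ W, f v ∈ W) (π : F[X]) :
    ∀ v ∈ W ⊓ kerP f π, f v ∈ W ⊓ kerP f π := fun v hv => ⟨hW v hv.1, invariant_kerP f π hv.2⟩

open Classical in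
/-- The identity for one polynomial. -/
theorem sum_single (f : Module.End F V) {π : F[X]} (hπ : Irreducible π) (hm : π.Monic) (U : Submodule F V)
    (hU : U ≤ kerP f π) (hUi : ∀ v ∈ U, f v ∈ U) :
    ∑ W ∈ invBelow f U, mu (Fintype.card F ^ π.natDegree) (finrank F W / π.natDegree) = if U = ⊥ then 1 else 0 := by
  have := Fact.mk hπ
  set g : Module.End F U := f.restrict hUi
  have hg : aeval g π = 0 := LinearMap.ext fun v => Subtype.ext (by
    rw [aeval_restrict hUi, show aeval f π (v : V) = 0 from LinearMap.mem_ker.1 (hU v.2)]; rfl)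
  let _ := rootModule g hg
  have := isScalarTower_root g hg
  have := finite_root (π := π) hm
  have : Finite (AdjoinRoot π) := Module.finite_of_finite F
  let _ := Fintype.ofFinite (AdjoinRoot π)
  have := Module.Finite.of_restrictScalars_finite F (AdjoinRoot π) U
  have : Finite V := Module.finite_of_finite F
  let _ := Fintype.ofFinite U
  let _ := Fintype.ofFinite (Submodule (AdjoinRoot π) U)
  have hd := hπ.natDegree_pos
  have hQ : Fintype.card (AdjoinRoot π) = Fintype.card F ^ π.natDegree := by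
    rw [← Nat.card_eq_fintype_card, natCard_root hm, Nat.card_eq_fintype_card]
  have h := (sum_le_mu_and_wt (K := AdjoinRoot π) (⊤ : Submodule (AdjoinRoot π) U)).1
  have htop : ((⊤ : Submodule (AdjoinRoot π) U) = ⊥) ↔ U = ⊥ := by
    refine ⟨fun e => (Submodule.eq_bot_iff _).2 fun v hv => ?_, fun e => (Submodule.eq_bot_iff _).2 fun v _ => ?_⟩
    · have : (⟨v, hv⟩ : U) ∈ (⊥ : Submodule (AdjoinRoot π) U) := e ▸ Submodule.mem_top
      exact congrArg Subtype.val ((Submodule.mem_bot _).1 this)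
    · exact Subtype.ext ((Submodule.eq_bot_iff _).1 e v.1 v.2)
  rw [if_congr htop rfl rfl, hQ, Finset.filter_true_of_mem (fun W _ => le_top)] at h
  rw [← h]
  symm
  refine Finset.sum_bij (fun W _ => (W.restrictScalars F).map U.subtype) (fun W _ => ?_) (fun W _ W' _ e => ?_) (fun W hW => ?_)
    (fun W _ => ?_)
  · refine mem_invBelow.2 ⟨Submodule.map_subtype_le _ _, ?_⟩
    rintro _ ⟨v, hv, rfl⟩
    exact ⟨g v, ((invariantOrderIso g hg).symm W).2 v hv, rfl⟩
  · exact (Submodule.restrictScalars_injective F (AdjoinRoot π) U) (Submodule.map_injective_of_injective U.injective_subtype e)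
  · obtain ⟨hWU, hWi⟩ := mem_invBelow.1 hW
    let W' : {W : Submodule F U // ∀ v ∈ W, g v ∈ W} := ⟨W.comap U.subtype, fun v hv => hWi _ hv⟩
    refine ⟨invariantOrderIso g hg W', Finset.mem_univ _, ?_⟩
    show (W.comap U.subtype).map U.subtype = W
    rw [Submodule.map_comap_subtype, inf_eq_right.2 hWU]
  · rw [Submodule.finrank_map_subtype_eq, show finrank F (W.restrictScalars F) = finrank F W from rfl,
      ← Module.finrank_mul_finrank F (AdjoinRoot π) W, finrank_root hm, Nat.mul_div_cancel_left _ hd]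

/-- The splitting of an invariant subspace. -/
theorem eq_sup {f : Module.End F V} {P R : F[X]} (h : IsCoprime P R) {W : Submodule F V} (hW : ∀ v ∈ W, f v ∈ W)
    (hWk : W ≤ kerP f (P * R)) : W = (W ⊓ kerP f P) ⊔ (W ⊓ kerP f R) := by
  refine le_antisymm (fun v hv => ?_) (sup_le inf_le_left inf_le_left)
  obtain ⟨a, b, hab⟩ := h
  have hv0 : aeval f (P * R) v = 0 := LinearMap.mem_ker.1 (hWk hv)
  have e : v = aeval f (b * R) v + aeval f (a * P) v := by
    rw [← LinearMap.add_apply, ← map_add, add_comm, hab, map_one, Module.End.one_apply]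
  rw [e]
  refine Submodule.add_mem_sup ⟨aeval_mem hW _ hv, ?_⟩ ⟨aeval_mem hW _ hv, ?_⟩
  · show aeval f (b * R) v ∈ kerP f P
    rw [kerP, LinearMap.mem_ker, ← Module.End.mul_apply, ← map_mul, show P * (b * R) = b * (P * R) by ring, map_mul,
      Module.End.mul_apply, hv0, map_zero]
  · show aeval f (a * P) v ∈ kerP f R
    rw [kerP, LinearMap.mem_ker, ← Module.End.mul_apply, ← map_mul, show R * (a * P) = a * (P * R) by ring, map_mul,
      Module.End.mul_apply, hv0, map_zero]

theorem kerP_le_of_dvd (f : Module.End F V) {P R : F[X]} (h : P ∣ R) : kerP f P ≤ kerP f R := by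
  obtain ⟨c, rfl⟩ := h
  intro v hv
  rw [kerP, LinearMap.mem_ker] at hv ⊢
  rw [mul_comm, map_mul, Module.End.mul_apply, hv, map_zero]

open Classical in
/-- The defining identity of the weights. -/
theorem sum_weight (f : Module.End F V) (S : Finset F[X]) (hS : ∀ π ∈ S, Irreducible π ∧ π.Monic) (U : Submodule F V)
    (hU : U ≤ kerP f (∏ π ∈ S, π)) (hUi : ∀ v ∈ U, f v ∈ U) :
    ∑ W ∈ invBelow f U, weight f S W = if U = ⊥ then 1 else 0 := by
  induction S using Finset.induction_on generalizing U with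
  | empty =>
    have hU0 : U = ⊥ := le_bot_iff.1 (hU.trans (by simp [kerP, Module.End.one_eq_id]))
    subst hU0
    rw [if_pos rfl, Finset.sum_eq_single_of_mem ⊥ (mem_invBelow.2 ⟨le_rfl, fun v hv => by simp_all⟩)
      (fun W hW hne => absurd (le_bot_iff.1 (mem_invBelow.1 hW).1) hne), weight, Finset.prod_empty]
  | insert π S hπS ih =>
    obtain ⟨hπ, hm⟩ := hS π (Finset.mem_insert_self π S)
    have hS' : ∀ σ ∈ S, Irreducible σ ∧ σ.Monic := fun σ hσ => hS σ (Finset.mem_insert_of_mem hσ)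
    set R := ∏ σ ∈ S, σ
    rw [Finset.prod_insert hπS] at hU
    have hcop : IsCoprime π R := IsCoprime.prod_right fun σ hσ => hπ.coprime_iff_not_dvd.2 fun hd =>
      hπS ((eq_of_monic_of_associated hm (hS' σ hσ).2 (hπ.associated_of_dvd (hS' σ hσ).1 hd)) ▸ hσ)
    have hdisj : kerP f π ⊓ kerP f R = ⊥ := disjoint_iff.1 (Polynomial.disjoint_ker_aeval_of_isCoprime f hcop)
    have h1 : ∀ W1 W2 : Submodule F V, W1 ≤ kerP f π → W2 ≤ kerP f R →
        (W1 ⊔ W2) ⊓ kerP f π = W1 ∧ (W1 ⊔ W2) ⊓ kerP f R = W2 := by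
      intro W1 W2 a b
      constructor
      · rw [sup_inf_assoc_of_le _ a, show W2 ⊓ kerP f π = ⊥ from le_bot_iff.1
          ((inf_le_inf_right _ b).trans (by rw [inf_comm, hdisj])), sup_bot_eq]
      · rw [sup_comm, sup_inf_assoc_of_le _ b, show W1 ⊓ kerP f R = ⊥ from le_bot_iff.1
          ((inf_le_inf_right _ a).trans hdisj.le), sup_bot_eq]
    have hweight : ∀ W, weight f (insert π S) W =
        mu (Fintype.card F ^ π.natDegree) (finrank F ↥(W ⊓ kerP f π) / π.natDegree) * weight f S (W ⊓ kerP f R) := by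
      intro W
      rw [weight, Finset.prod_insert hπS, weight]
      congr 1
      refine Finset.prod_congr rfl fun σ hσ => ?_
      rw [inf_assoc, inf_eq_right.2 (kerP_le_of_dvd f (Finset.dvd_prod_of_mem _ hσ))]
    have hδ : (if U ⊓ kerP f π = ⊥ then (1 : ℤ) else 0) * (if U ⊓ kerP f R = ⊥ then 1 else 0) =
        if U = ⊥ then 1 else 0 := by
      by_cases h : U = ⊥
      · subst h; simp
      · rw [if_neg h]
        by_cases h' : U ⊓ kerP f π = ⊥
        · have : U ⊓ kerP f R ≠ ⊥ := fun h'' => h (by rw [eq_sup hcop hUi hU, h', h'', sup_bot_eq])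
          rw [if_neg this, mul_zero]
        · rw [if_neg h', zero_mul]
    rw [← hδ, ← sum_single f hπ hm _ inf_le_right (invariant_inf hUi π),
      ← ih hS' _ inf_le_right (invariant_inf hUi R), Finset.sum_mul_sum, ← Finset.sum_product']
    refine Finset.sum_bij (fun W _ => (W ⊓ kerP f π, W ⊓ kerP f R)) (fun W hW => ?_) (fun W hW W' hW' e => ?_) (fun p hp => ?_)
      (fun W hW => hweight W)
    · obtain ⟨a, b⟩ := mem_invBelow.1 hW
      exact Finset.mem_product.2 ⟨mem_invBelow.2 ⟨inf_le_inf_right _ a, invariant_inf b π⟩,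
        mem_invBelow.2 ⟨inf_le_inf_right _ a, invariant_inf b R⟩⟩
    · obtain ⟨a, b⟩ := mem_invBelow.1 hW
      obtain ⟨a', b'⟩ := mem_invBelow.1 hW'
      obtain ⟨e1, e2⟩ := Prod.ext_iff.1 e
      rw [eq_sup hcop b (a.trans hU), eq_sup hcop b' (a'.trans hU), show W ⊓ kerP f π = W' ⊓ kerP f π from e1,
        show W ⊓ kerP f R = W' ⊓ kerP f R from e2]
    · obtain ⟨hp1, hp2⟩ := Finset.mem_product.1 hp
      obtain ⟨a1, b1⟩ := mem_invBelow.1 hp1
      obtain ⟨a2, b2⟩ := mem_invBelow.1 hp2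
      have hc := h1 p.1 p.2 (a1.trans inf_le_right) (a2.trans inf_le_right)
      refine ⟨p.1 ⊔ p.2, mem_invBelow.2 ⟨sup_le (a1.trans inf_le_left) (a2.trans inf_le_left), fun v hv => ?_⟩, Prod.ext hc.1 hc.2⟩
      obtain ⟨x, hx, y, hy, rfl⟩ := Submodule.mem_sup.1 hv
      rw [map_add]
      exact Submodule.add_mem_sup (b1 x hx) (b2 y hy)

open Classical in
/-- The chains of non-zero proper invariant subspaces of `U`. -/
noncomputable def chainsBelow (f : Module.End F V) (U : Submodule F V) : Finset (Finset (Submodule F V)) :=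
  Finset.univ.filter fun C => IsChain (· ≤ ·) (C : Set (Submodule F V)) ∧
    ∀ W ∈ C, W ≠ ⊥ ∧ W < U ∧ ∀ v ∈ W, f v ∈ W

theorem mem_chainsBelow {f : Module.End F V} {U : Submodule F V} {C : Finset (Submodule F V)} :
    C ∈ chainsBelow f U ↔ IsChain (· ≤ ·) (C : Set (Submodule F V)) ∧ ∀ W ∈ C, W ≠ ⊥ ∧ W < U ∧ ∀ v ∈ W, f v ∈ W := by
  classical
  simp [chainsBelow]

open Classical in
/-- The recursion for the alternating count. -/
theorem sum_chains_rec (f : Module.End F V) (U : Submodule F V) :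
    ∑ C ∈ chainsBelow f U, (-1 : ℤ) ^ C.card =
      1 - ∑ W ∈ (invBelow f U).filter (fun W => W ≠ ⊥ ∧ W ≠ U), ∑ C ∈ chainsBelow f W, (-1 : ℤ) ^ C.card := by
  have hempty : (∅ : Finset (Submodule F V)) ∈ chainsBelow f U := mem_chainsBelow.2 ⟨by simp, by simp⟩
  rw [← Finset.add_sum_erase _ _ hempty, Finset.card_empty, pow_zero, sub_eq_add_neg, ← Finset.sum_neg_distrib]
  congr 1
  rw [Finset.sum_congr rfl (g := fun W => ∑ C ∈ chainsBelow f W, -((-1 : ℤ) ^ C.card)) fun W _ => by rw [Finset.sum_neg_distrib],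
    Finset.sum_sigma']
  symm
  have hmem : ∀ x : Σ _ : Submodule F V, Finset (Submodule F V),
      x ∈ ((invBelow f U).filter fun W => W ≠ ⊥ ∧ W ≠ U).sigma (fun W => chainsBelow f W) →
      (x.1 ≠ ⊥ ∧ x.1 < U ∧ ∀ v ∈ x.1, f v ∈ x.1) ∧ x.2 ∈ chainsBelow f x.1 ∧ x.1 ∉ x.2 := by
    intro x hx
    simp only [Finset.mem_sigma, Finset.mem_filter, mem_invBelow] at hx
    exact ⟨⟨hx.1.2.1, lt_of_le_of_ne hx.1.1.1 hx.1.2.2, hx.1.1.2⟩, hx.2,
      fun h => lt_irrefl _ ((mem_chainsBelow.1 hx.2).2 _ h).2.1⟩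
  refine Finset.sum_bij (fun x _ => insert x.1 x.2) (fun x hx => ?_) (fun x hx y hy e => ?_) (fun C hC => ?_) (fun x hx => ?_)
  · obtain ⟨h1, h2, -⟩ := hmem x hx
    obtain ⟨hc, hb⟩ := mem_chainsBelow.1 h2
    refine Finset.mem_erase.2 ⟨Finset.insert_ne_empty _ _, mem_chainsBelow.2 ⟨?_, ?_⟩⟩
    · rw [Finset.coe_insert]
      exact hc.insert fun W hW _ => Or.inr (hb W hW).2.1.le
    · intro W hW
      rcases Finset.mem_insert.1 hW with rfl | hW
      · exact h1
      · exact ⟨(hb W hW).1, (hb W hW).2.1.trans h1.2.1, (hb W hW).2.2⟩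
  · obtain ⟨-, h2, h3⟩ := hmem x hx
    obtain ⟨-, g2, g3⟩ := hmem y hy
    have e1 : x.1 = y.1 := by
      by_contra hne
      have a : x.1 ∈ y.2 := (Finset.mem_insert.1 (e ▸ Finset.mem_insert_self x.1 x.2)).resolve_left hne
      have b : y.1 ∈ x.2 := (Finset.mem_insert.1 (e.symm ▸ Finset.mem_insert_self y.1 y.2)).resolve_left (Ne.symm hne)
      exact lt_irrefl _ (((mem_chainsBelow.1 g2).2 _ a).2.1.trans ((mem_chainsBelow.1 h2).2 _ b).2.1)
    refine Sigma.ext e1 (heq_of_eq ?_)
    rw [← Finset.erase_insert h3, e, e1, Finset.erase_insert g3]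
  · obtain ⟨hne, hC⟩ := Finset.mem_erase.1 hC
    obtain ⟨hc, hb⟩ := mem_chainsBelow.1 hC
    obtain ⟨M, hM, hmax⟩ := C.exists_maximal (Finset.nonempty_iff_ne_empty.2 hne)
    refine ⟨⟨M, C.erase M⟩, ?_, Finset.insert_erase hM⟩
    simp only [Finset.mem_sigma, Finset.mem_filter, mem_invBelow]
    refine ⟨⟨⟨(hb M hM).2.1.le, (hb M hM).2.2⟩, (hb M hM).1, (hb M hM).2.1.ne⟩, mem_chainsBelow.2
      ⟨hc.mono (by simp), fun W hW => ?_⟩⟩
    obtain ⟨hWM, hW⟩ := Finset.mem_erase.1 hW
    refine ⟨(hb W hW).1, lt_of_le_of_ne ?_ hWM, (hb W hW).2.2⟩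
    rcases hc.total hW hM with h | h
    · exact h
    · exact hmax hW h
  · rw [Finset.card_insert_of_notMem (hmem x hx).2.2, pow_succ]
    ring

open Classical in
/-- The alternating count of chains is the opposite of the weight. -/
theorem sum_chains_eq (f : Module.End F V) (S : Finset F[X]) (hS : ∀ π ∈ S, Irreducible π ∧ π.Monic) :
    ∀ (k : ℕ) (U : Submodule F V), finrank F U ≤ k → U ≤ kerP f (∏ π ∈ S, π) → (∀ v ∈ U, f v ∈ U) → U ≠ ⊥ →
      ∑ C ∈ chainsBelow f U, (-1 : ℤ) ^ C.card = -weight f S U := by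
  intro k
  induction k with
  | zero => exact fun U hk _ _ hne => absurd (Submodule.finrank_eq_zero.1 (Nat.le_zero.1 hk)) hne
  | succ k ih =>
    intro U hk hU hUi hne
    have h := sum_weight f S hS U hU hUi
    rw [if_neg hne] at h
    rw [sum_chains_rec]
    have hmid : ∀ W ∈ (invBelow f U).filter (fun W => W ≠ ⊥ ∧ W ≠ U),
        ∑ C ∈ chainsBelow f W, (-1 : ℤ) ^ C.card = -weight f S W := by
      intro W hW
      simp only [Finset.mem_filter, mem_invBelow] at hW
      have := Submodule.finrank_lt_finrank_of_lt (lt_of_le_of_ne hW.1.1 hW.2.2)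
      exact ih W (by omega) (hW.1.1.trans hU) hW.1.2 hW.2.1
    rw [Finset.sum_congr rfl hmid, Finset.sum_neg_distrib]
    have hb : (⊥ : Submodule F V) ∈ invBelow f U := mem_invBelow.2 ⟨bot_le, fun v hv => by simp_all⟩
    have hu : U ∈ (invBelow f U).erase ⊥ := Finset.mem_erase.2 ⟨hne, mem_invBelow.2 ⟨le_rfl, hUi⟩⟩
    rw [← Finset.add_sum_erase _ _ hb, ← Finset.add_sum_erase _ _ hu,
      show ((invBelow f U).erase ⊥).erase U = (invBelow f U).filter (fun W => W ≠ ⊥ ∧ W ≠ U) by
        ext W; simp only [Finset.mem_erase, Finset.mem_filter]; tauto] at h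
    have hw0 : weight f S ⊥ = 1 := Finset.prod_eq_one fun π _ => by
      rw [bot_inf_eq, finrank_bot, Nat.zero_div]; simp [mu]
    rw [hw0] at h
    linarith

end Cfsg.Agent.Lib.SteinbergValue
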