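import Mathlib
import Cfsg.Prelude.Def_LinearParabolics

/-!
The permutations occurring in the alternating sum for the Steinberg character.
-/

set_option autoImplicit false

namespace Cfsg.Agent.Lib.SteinbergValue

open Cfsg

/-- The last cut point not exceeding `k`. -/
def lb (T : Finset ℕ) : ℕ → ℕ
  | 0 => 0
  | k + 1 => if k ∈ T then lb T k else k + 1

theorem lb_le (T : Finset ℕ) : ∀ k, lb T k ≤ k
  | 0 => le_rfl
  | k + 1 => by
    rw [lb]
    split_ifs
    · exact (lb_le T k).trans (Nat.le_succ k)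
    · exact le_rfl

theorem lb_cases (T : Finset ℕ) : ∀ k, lb T k = 0 ∨ ∃ i < k, i ∉ T ∧ lb T k = i + 1
  | 0 => Or.inl rfl
  | k + 1 => by
    rw [lb]
    split_ifs with h
    · rcases lb_cases T k with h' | ⟨i, hi, h'⟩
      · exact Or.inl h'
      · exact Or.inr ⟨i, hi.trans (Nat.lt_succ_self k), h'⟩
    · exact Or.inr ⟨k, Nat.lt_succ_self k, h, rfl⟩

variable {n : ℕ}

/-- The product of the adjacent transpositions indexed by `T`, in increasing order. -/
def kap (n : ℕ) (T : Finset ℕ) : ℕ → Equiv.Perm (Fin n)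
  | 0 => 1
  | k + 1 => if h : k ∈ T ∧ k + 1 < n then kap n T k * Equiv.swap ⟨k, by omega⟩ ⟨k + 1, h.2⟩ else kap n T k

theorem kap_spec (T : Finset ℕ) : ∀ k, k < n → ∀ i : Fin n,
    (i.val < k → (kap n T k i).val = if i.val ∈ T then i.val + 1 else lb T i) ∧
    (i.val = k → (kap n T k i).val = lb T k) ∧ (k < i.val → kap n T k i = i) := by
  intro k
  induction k with
  | zero =>
    intro _ i
    exact ⟨fun h => absurd h (Nat.not_lt_zero _), fun h => by simp [kap, lb, h], fun _ => rfl⟩
  | succ k ih =>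
    intro hk i
    have ih' := ih (by omega)
    by_cases hT : k ∈ T
    · have e : kap n T (k + 1) = kap n T k * Equiv.swap ⟨k, by omega⟩ ⟨k + 1, hk⟩ := by rw [kap, dif_pos ⟨hT, hk⟩]
      rw [e, Equiv.Perm.mul_apply]
      refine ⟨fun hi => ?_, fun hi => ?_, fun hi => ?_⟩
      · rcases Nat.lt_succ_iff_lt_or_eq.1 hi with h | h
        · rw [Equiv.swap_apply_of_ne_of_ne (by simp [Fin.ext_iff]; omega) (by simp [Fin.ext_iff]; omega)]
          exact (ih' i).1 h
        · rw [show i = ⟨k, by omega⟩ from Fin.ext h, Equiv.swap_apply_left, if_pos hT,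
            (ih' ⟨k + 1, hk⟩).2.2 (Nat.lt_succ_self k)]
      · rw [show i = ⟨k + 1, hk⟩ from Fin.ext hi, Equiv.swap_apply_right, (ih' ⟨k, by omega⟩).2.1 rfl, lb, if_pos hT]
      · rw [Equiv.swap_apply_of_ne_of_ne (by simp [Fin.ext_iff]; omega) (by simp [Fin.ext_iff]; omega)]
        exact (ih' i).2.2 (by omega)
    · have e : kap n T (k + 1) = kap n T k := by rw [kap, dif_neg (fun h => hT h.1)]
      rw [e]
      refine ⟨fun hi => ?_, fun hi => ?_, fun hi => (ih' i).2.2 (by omega)⟩
      · rcases Nat.lt_succ_iff_lt_or_eq.1 hi with h | h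
        · exact (ih' i).1 h
        · rw [if_neg (h ▸ hT), (ih' i).2.1 h, h]
      · rw [(ih' i).2.2 (by omega), hi, lb, if_neg hT]

theorem sign_kap (T : Finset ℕ) : ∀ k, k < n →
    ((Equiv.Perm.sign (kap n T k) : ℤˣ) : ℤ) = (-1) ^ ((Finset.range k).filter (· ∈ T)).card := by
  intro k
  induction k with
  | zero => intro _; simp [kap]
  | succ k ih =>
    intro hk
    rw [Finset.range_add_one, Finset.filter_insert]
    by_cases hT : k ∈ T
    · rw [if_pos hT, Finset.card_insert_of_notMem (by simp), pow_succ, ← ih (by omega), kap, dif_pos ⟨hT, hk⟩,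
        Equiv.Perm.sign_mul, Equiv.Perm.sign_swap (by simp [Fin.ext_iff])]
      simp
    · rw [if_neg hT, ← ih (by omega), kap, dif_neg (fun h => hT h.1)]

variable {T : Finset ℕ}

theorem kap_last (hT : T ⊆ Finset.range (n - 1)) (i : Fin n) :
    (kap n T (n - 1) i).val = if i.val ∈ T then i.val + 1 else lb T i := by
  have hn : 0 < n := Nat.lt_of_le_of_lt (Nat.zero_le _) i.isLt
  rcases Nat.lt_or_eq_of_le (show i.val ≤ n - 1 by omega) with h | h
  · exact (kap_spec T _ (by omega) i).1 h
  · rw [(kap_spec T _ (by omega) i).2.1 h, if_neg (fun hi => by have := Finset.mem_range.1 (hT hi); omega), h]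

theorem kap_le (hT : T ⊆ Finset.range (n - 1)) (i : Fin n) : (kap n T (n - 1) i).val ≤ i.val + 1 := by
  rw [kap_last hT]
  split_ifs
  · exact le_rfl
  · exact (lb_le T _).trans (Nat.le_succ _)

theorem kap_mem_iff (hT : T ⊆ Finset.range (n - 1)) (i : Fin n) :
    (kap n T (n - 1) i).val = i.val + 1 ↔ i.val ∈ T := by
  rw [kap_last hT]
  split_ifs with h
  · simp [h]
  · have := lb_le T i.val
    simp only [h, iff_false]
    omega

/-- An admissible permutation is determined by the positions it moves up. -/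
theorem eq_kap (hn : 0 < n) (κ : Equiv.Perm (Fin n)) (hκ : ∀ i : Fin n, (κ i).val ≤ i.val + 1) :
    ∃ T : Finset ℕ, T ⊆ Finset.range (n - 1) ∧ κ = kap n T (n - 1) := by
  classical
  let T : Finset ℕ := (Finset.univ.filter fun i : Fin n => (κ i).val = i.val + 1).image Fin.val
  have hmem : ∀ i : Fin n, i.val ∈ T ↔ (κ i).val = i.val + 1 := fun i => by
    simp [T, Fin.val_inj]
  have hT : T ⊆ Finset.range (n - 1) := by
    intro m hm
    simp only [T, Finset.mem_image, Finset.mem_filter, Finset.mem_univ, true_and] at hm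
    obtain ⟨i, hi, rfl⟩ := hm
    rw [Finset.mem_range]
    have := (κ i).isLt
    omega
  refine ⟨T, hT, Equiv.ext fun i => ?_⟩
  induction hi : i.val using Nat.strong_induction_on generalizing i with
  | _ m ih =>
    subst hi
    by_cases h : i.val ∈ T
    · exact Fin.ext (((hmem i).1 h).trans ((kap_mem_iff hT i).2 h).symm)
    set S := (Finset.Iio i).image fun j => (κ j).val
    have hScard : S.card = i.val := by
      rw [Finset.card_image_of_injective _ fun a b e => κ.injective (Fin.ext e), Fin.card_Iio]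
    have hSsub : S ⊆ Finset.range (i.val + 1) := fun x hx => by
      obtain ⟨j, hj, rfl⟩ := Finset.mem_image.1 hx
      have := hκ j
      have : j.val < i.val := Fin.lt_def.1 (Finset.mem_Iio.1 hj)
      simp
      omega
    have hout : ∀ π : Equiv.Perm (Fin n), (∀ j < i, π j = κ j) → (π i).val ≤ i.val →
        (π i).val ∈ Finset.range (i.val + 1) \ S := by
      intro π hπ hle
      refine Finset.mem_sdiff.2 ⟨Finset.mem_range.2 (by omega), fun hx => ?_⟩
      obtain ⟨j, hj, he⟩ := Finset.mem_image.1 hx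
      have hji : j < i := Finset.mem_Iio.1 hj
      rw [← hπ j hji] at he
      exact hji.ne (π.injective (Fin.ext he))
    have hone : (Finset.range (i.val + 1) \ S).card = 1 := by
      rw [Finset.card_sdiff_of_subset hSsub, Finset.card_range, hScard]
      omega
    obtain ⟨y, hy⟩ := Finset.card_eq_one.1 hone
    have h1 := hout κ (fun _ _ => rfl) (by
      have := hκ i
      have : (κ i).val ≠ i.val + 1 := fun e => h ((hmem i).2 e)
      omega)
    have h2 := hout (kap n T (n - 1)) (fun j hj => (ih j.val hj j rfl).symm) (by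
      rw [kap_last hT, if_neg h]; exact lb_le T _)
    rw [hy, Finset.mem_singleton] at h1 h2
    exact Fin.ext (h1.trans h2.symm)

theorem sign_kap_last (hT : T ⊆ Finset.range (n - 1)) (hn : 0 < n) :
    ((Equiv.Perm.sign (kap n T (n - 1)) : ℤˣ) : ℤ) = (-1) ^ T.card := by
  rw [sign_kap T _ (by omega), show (Finset.range (n - 1)).filter (· ∈ T) = T by
    ext x; simpa using fun hx => Finset.mem_range.1 (hT hx)]

/-- The composition attached to `T`. -/
def parts (n : ℕ) (T : Finset ℕ) (i : Fin n) : ℕ := 1 + i.val - (kap n T (n - 1) i).val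

theorem sum_parts (hT : T ⊆ Finset.range (n - 1)) (j : Fin n) :
    ∑ k ∈ Finset.univ.filter (fun k : Fin n => k ≤ j), parts n T k = lb T (j.val + 1) := by
  obtain ⟨m, hm⟩ := j
  induction m with
  | zero =>
    rw [show (Finset.univ.filter fun k : Fin n => k ≤ ⟨0, hm⟩) = {⟨0, hm⟩} by
      ext k; simp [Fin.ext_iff, Fin.le_def], Finset.sum_singleton, parts, kap_last hT, lb]
    simp only [lb]
    split_ifs <;> omega
  | succ m ih =>
    rw [show (Finset.univ.filter fun k : Fin n => k ≤ ⟨m + 1, hm⟩) =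
      insert ⟨m + 1, hm⟩ (Finset.univ.filter fun k : Fin n => k ≤ ⟨m, by omega⟩) by
        ext k; simp [Fin.ext_iff, Fin.le_def]; omega,
      Finset.sum_insert (by simp [Fin.le_def]), ih, parts, kap_last hT]
    show _ = lb T (m + 1 + 1)
    rw [show lb T (m + 1 + 1) = if m + 1 ∈ T then lb T (m + 1) else m + 1 + 1 from rfl]
    have := lb_le T (m + 1)
    simp only
    split_ifs <;> omega

/-- The cut points of `T`. -/
def cuts (n : ℕ) (T : Finset ℕ) : Finset ℕ := (Finset.Ico 1 n).filter fun d => d - 1 ∉ T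

theorem compLabel_lt_iff (hT : T ⊆ Finset.range (n - 1)) (i j : Fin n) :
    compLabel (parts n T) j < compLabel (parts n T) i ↔ ∃ d ∈ cuts n T, j.val < d ∧ d ≤ i.val := by
  simp only [compLabel, sum_parts hT]
  constructor
  · intro h
    obtain ⟨k, hk, hk'⟩ := Finset.not_subset.1 fun hsub => absurd (Finset.card_le_card hsub) (not_le.2 h)
    simp only [Finset.mem_filter, Finset.mem_univ, true_and] at hk hk'
    refine ⟨lb T (k.val + 1), ?_, by omega, hk⟩
    rcases lb_cases T (k.val + 1) with h0 | ⟨a, -, ha, he⟩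
    · omega
    · have := i.isLt
      rw [he, cuts, Finset.mem_filter, Finset.mem_Ico]
      exact ⟨⟨by omega, by omega⟩, by simpa using ha⟩
  · rintro ⟨d, hd, hjd, hdi⟩
    simp only [cuts, Finset.mem_filter, Finset.mem_Ico] at hd
    have hlb : lb T (d - 1 + 1) = d := by rw [lb, if_neg hd.2]; omega
    refine Finset.card_lt_card (Finset.ssubset_iff_subset_ne.2 ⟨fun k => ?_, fun e => ?_⟩)
    · simp only [Finset.mem_filter, Finset.mem_univ, true_and]; omega
    · have hk : (⟨d - 1, by omega⟩ : Fin n) ∈ Finset.univ.filter fun k : Fin n => lb T (k.val + 1) ≤ i.val := by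
        simp only [Finset.mem_filter, Finset.mem_univ, true_and, hlb]; omega
      rw [← e] at hk
      simp only [Finset.mem_filter, Finset.mem_univ, true_and, hlb] at hk
      omega

end Cfsg.Agent.Lib.SteinbergValue
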